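import Mathlib
import Groth.Agent.MiscFlat6.AmpleFamily
import Groth.Agent.MiscFlat6.CoprodQProj

/-!
# Ample families on disjoint unions
-/

set_option autoImplicit false

universe u
open CategoryTheory CategoryTheory.Limits AlgebraicGeometry TopologicalSpace Opposite
open AmpleLib AmpleThLib
open TwistLib (genSet)
open KFlatLib (pb)

noncomputable section

namespace AmpleCdLib

/-- A section of a power of the restriction to an open and closed part extends by zero. -/
theorem exists_locus_extend {X A : Scheme.{u}} {M : X.Modules} (hM : PicF.IsInvertible M) (j : A ⟶ X)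
    [IsOpenImmersion j] (B : X.Opens) (hd : j.opensRange ⊓ B = ⊥) (hc : j.opensRange ⊔ B = ⊤) (n : ℕ)
    (τ : Γ(CohB1.tensorPow (M.restrict j) n, ⊤)) :
    ∃ σ : Γ(CohB1.tensorPow M n, ⊤), genSet (tensorPow_isInvertible hM n) σ =
      j ''ᵁ genSet (tensorPow_isInvertible (restrict_isInvertible hM j) n) τ := by
  let N := CohB1.tensorPow M n
  let φ := (exists_restrIso hM j n).choose
  let σ' : Γ(N, j ''ᵁ ⊤) := φ.hom.app ⊤ τ
  have hA : j ''ᵁ ⊤ = j.opensRange := j.image_top_eq_opensRange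
  let U : ULift.{u} Bool → X.Opens := fun b => cond b.down (j ''ᵁ ⊤) B
  let sf : ∀ b, Γ(N, U b) := fun b => match b with
    | ⟨true⟩ => σ'
    | ⟨false⟩ => 0
  have hcov : ⊤ ≤ iSup U :=
    hc.ge.trans (sup_le (hA.ge.trans (le_iSup U ⟨true⟩)) (le_iSup U ⟨false⟩))
  obtain ⟨σ, hσ, -⟩ := TopCat.Sheaf.existsUnique_gluing' (F := ⟨N.presheaf, N.isSheaf⟩) U ⊤
    (fun b => homOfLE le_top) hcov sf (by
      rintro ⟨_ | _⟩ ⟨_ | _⟩
      · rfl
      · exact @Subsingleton.elim _ (MiscFlat6.subsingleton_bot N (U := U ⟨false⟩ ⊓ U ⟨true⟩)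
          ((inf_comm _ _).trans ((congrArg (· ⊓ B) hA).trans hd))) _ _
      · exact @Subsingleton.elim _ (MiscFlat6.subsingleton_bot N (U := U ⟨true⟩ ⊓ U ⟨false⟩)
          ((congrArg (· ⊓ B) hA).trans hd)) _ _
      · rfl)
  have h1 : res N (le_top : j ''ᵁ ⊤ ≤ ⊤) σ = σ' := hσ ⟨true⟩
  have h0 : res N (le_top : B ≤ ⊤) σ = 0 := hσ ⟨false⟩
  have hτ : rSec hM j n (res N le_top σ) = τ := by
    rw [h1]; exact congr($(φ.hom_inv_id).app ⊤ τ)
  refine ⟨σ, ?_⟩
  have hg : genSet (tensorPow_isInvertible hM n) σ ≤ j.opensRange := by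
    intro x hx
    rcases (hc.ge (show x ∈ (⊤ : X.Opens) from trivial) : x ∈ j.opensRange ∨ x ∈ B) with h | h
    · exact h
    exfalso
    have hx' : GenAt N (res N (le_top : B ≤ ⊤) σ) h := (genAt_res _ σ h).mpr hx
    rw [h0] at hx'
    have h2 : (N.presheaf.germ B x h) (0 : Γ(N, B)) = 0 := map_zero _
    have := hx'.1 (a₁ := (0 : X.presheaf.stalk x)) (a₂ := 1) (by simp only [h2, smul_zero])
    exact zero_ne_one this
  rw [← hτ, genSet_rSec, Scheme.Hom.image_preimage_eq_opensRange_inf]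
  exact (inf_eq_right.mpr hg).symm

/-- Disjoint unions of two schemes with ample families have one. -/
theorem hasAmpleFamily_coprod {X X' : Scheme.{u}} (hX : MoreMor.HasAmpleFamily X)
    (hX' : MoreMor.HasAmpleFamily X') : MoreMor.HasAmpleFamily (X ⨿ X') := by
  haveI := hX.1
  haveI := hX'.1
  refine ⟨⟨?_⟩, fun z => ?_⟩
  · have h := (isCompl_range_inl_inr X X').sup_eq_top
    change Set.range (coprod.inl : X ⟶ X ⨿ X') ∪ Set.range (coprod.inr : X' ⟶ X ⨿ X') = Set.univ at h
    rw [← h]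
    exact (isCompact_range (coprod.inl : X ⟶ X ⨿ X').continuous).union
      (isCompact_range (coprod.inr : X' ⟶ X ⨿ X').continuous)
  -- one summand with the zero section on the other
  have key : ∀ {A B : Scheme.{u}} (i : A ⟶ X ⨿ X') (k : B ⟶ X ⨿ X') [IsOpenImmersion i] [IsOpenImmersion k],
      IsCompl i.opensRange k.opensRange → MoreMor.HasAmpleFamily A → ∀ a : A, i a = z →
      ∃ (L : (X ⨿ X').Modules) (n : ℕ) (s : Coh.structureModule (X ⨿ X') ⟶ CohB1.tensorPow L n),
        PicF.IsInvertible L ∧ 1 ≤ n ∧ z ∈ CohB1.genLocus (CohB1.tensorPow L n) s ∧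
          IsAffineOpen (CohB1.genLocus (CohB1.tensorPow L n) s) := by
    intro A B i k _ _ hik hA a ha
    obtain ⟨L, n, s, hL, hn, has, haff⟩ := hA.2 a
    let P := (Scheme.Modules.pushforward i).obj L
    let Q := (Scheme.Modules.pushforward k).obj (Coh.structureModule B)
    have hd : Disjoint (Set.range i) (Set.range k) := by
      rw [Set.disjoint_iff_inter_eq_empty]; exact congrArg SetLike.coe hik.inf_eq_bot
    obtain ⟨eP⟩ := MiscFlat6.pullback_push_iso i L
    obtain ⟨eQ⟩ := MiscFlat6.pullback_push_iso k (Coh.structureModule B)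
    haveI : (Scheme.Modules.pullback i).IsLeftAdjoint :=
      (Scheme.Modules.pullbackPushforwardAdjunction _).isLeftAdjoint
    haveI : (Scheme.Modules.pullback k).IsLeftAdjoint :=
      (Scheme.Modules.pullbackPushforwardAdjunction _).isLeftAdjoint
    haveI := preservesBinaryBiproduct_of_preservesBinaryCoproduct (Scheme.Modules.pullback i) (X := P) (Y := Q)
    haveI := preservesBinaryBiproduct_of_preservesBinaryCoproduct (Scheme.Modules.pullback k) (X := P) (Y := Q)
    let ei : (P ⊞ Q).restrict i ≅ L := (Scheme.Modules.restrictFunctorIsoPullback i).app _ ≪≫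
      (Scheme.Modules.pullback i).mapBiprod P Q ≪≫
      (isoBiprodZero (MiscFlat6.isZero_pullback_push_disjoint _ _ hd _)).symm ≪≫ eP
    let ek : (P ⊞ Q).restrict k ≅ Coh.structureModule B := (Scheme.Modules.restrictFunctorIsoPullback k).app _ ≪≫
      (Scheme.Modules.pullback k).mapBiprod P Q ≪≫
      (isoZeroBiprod (MiscFlat6.isZero_pullback_push_disjoint _ _ hd.symm _)).symm ≪≫ eQ
    have hO : PicF.IsInvertible (Coh.structureModule B) :=
      fun x => ⟨⊤, trivial, MiscFlat6.nonempty_restrict_structureModule _⟩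
    have hM : PicF.IsInvertible (P ⊞ Q) := MiscFlat6.isInvertible_of_restrict_cover fun w => by
      rcases (hik.sup_eq_top.ge (show w ∈ (⊤ : (X ⨿ X').Opens) from trivial) :
        w ∈ i.opensRange ∨ w ∈ k.opensRange) with ⟨b, hb⟩ | ⟨b, hb⟩
      · exact ⟨A, i, inferInstance, b, hb, MiscFlat6.invertible_congr hL ei.symm⟩
      · exact ⟨B, k, inferInstance, b, hb, MiscFlat6.invertible_congr hO ek.symm⟩
    have hMi := restrict_isInvertible hM i
    have hp : Nonempty (CohB1.tensorPow L n ≅ CohB1.tensorPow ((P ⊞ Q).restrict i) n) := by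
      clear s has haff hn
      induction n with
      | zero => exact ⟨Iso.refl _⟩
      | succ n ih => exact ih.map fun e => PicGrp.tensorModIso e ei.symm
    rw [genLocus_hom (tensorPow_isInvertible hL n)] at has haff
    let t : Γ(CohB1.tensorPow L n, ⊤) := s.app ⊤ (1 : Γ(A, ⊤))
    let τ : Γ(CohB1.tensorPow ((P ⊞ Q).restrict i) n, ⊤) := hp.some.hom.app ⊤ t
    have hτ : genSet (tensorPow_isInvertible hMi n) τ = genSet (tensorPow_isInvertible hL n) t :=
      genSet_iso (tensorPow_isInvertible hL n) _ hp.some t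
    obtain ⟨σ, hσ⟩ := exists_locus_extend hM i k.opensRange hik.inf_eq_bot hik.sup_eq_top n τ
    have hgl : CohB1.genLocus _ (QCohLib.unitHom _ σ) = i ''ᵁ genSet (tensorPow_isInvertible hL n) t :=
      (genLocus_unitHom (tensorPow_isInvertible hM _) _).trans (hσ.trans (by rw [hτ]))
    exact ⟨P ⊞ Q, n, QCohLib.unitHom _ σ, hM, hn, hgl ▸ ⟨a, has, ha⟩, hgl ▸ haff.image_of_isOpenImmersion i⟩
  have hcompl := isCompl_opensRange_inl_inr X X'
  rcases (hcompl.sup_eq_top.ge (show z ∈ (⊤ : (X ⨿ X').Opens) from trivial) :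
    z ∈ (coprod.inl : X ⟶ X ⨿ X').opensRange ∨ z ∈ (coprod.inr : X' ⟶ X ⨿ X').opensRange) with ⟨a, ha⟩ | ⟨a, ha⟩
  · exact key coprod.inl coprod.inr hcompl hX a ha
  · exact key coprod.inr coprod.inl hcompl.symm hX' a ha

end AmpleCdLib
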