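import Mathlib
import Groth.Agent.AmpleCdLib.Coprod
import Groth.Agent.RGFlatLib.AmpleBlowUp
import Groth.Agent.RzLib.Square
import Groth.Agent.BMLib.Geom
import Groth.Agent.NoethApproxLib.Main

/-!
# Proper completely decomposed coverings with an ample family
-/

set_option autoImplicit false
set_option maxHeartbeats 1000000

universe u

open CategoryTheory CategoryTheory.Limits AlgebraicGeometry TopologicalSpace

noncomputable section

namespace AmpleCdLib

/-- Over every Noetherian scheme and closed subset there is a proper morphism with ample family, through which the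
residue field points of the closed subset factor. -/
theorem exists_cover_closed {X₀ : Scheme.{u}} [IsNoetherian X₀] (C : Closeds X₀) :
    ∃ (Y : Scheme.{u}) (f : Y ⟶ X₀), IsProper f ∧ MoreMor.HasAmpleFamily Y ∧
      ∀ x ∈ C, ∃ l : Spec (X₀.residueField x) ⟶ Y, l ≫ f = X₀.fromSpecResidueField x := by
  induction C using WellFoundedLT.induction with
  | ind C ih =>
  let j := (Scheme.IdealSheafData.vanishingIdeal C).subschemeι
  let C' := (Scheme.IdealSheafData.vanishingIdeal C).subscheme
  have hrange : Set.range j = (C : Set X₀) := by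
    rw [Scheme.IdealSheafData.range_subschemeι, Scheme.IdealSheafData.coe_support_vanishingIdeal]
  haveI : IsNoetherian C' :=
    { toIsLocallyNoetherian := LocallyOfFiniteType.isLocallyNoetherian j
      toCompactSpace := QuasiCompact.compactSpace_of_compactSpace j }
  have hfac : ∀ x ∈ C, ∃ t : Spec (X₀.residueField x) ⟶ C', t ≫ j = X₀.fromSpecResidueField x := fun x hx =>
    ⟨IsClosedImmersion.lift j (X₀.fromSpecResidueField x) (by
      rw [Scheme.IdealSheafData.ker_subschemeι]
      refine BMLib.vanishingIdeal_le_ker _ C ?_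
      rintro _ ⟨s, rfl⟩
      rw [Scheme.fromSpecResidueField_apply]; exact hx), IsClosedImmersion.lift_fac _ _ _⟩
  rcases isEmpty_or_nonempty C' with hC | hC
  · refine ⟨C', j, inferInstance, ⟨inferInstance, fun x => isEmptyElim x⟩, fun x hx => ?_⟩
    exact hfac x hx
  obtain ⟨U, 𝓘, X', b, -, hUd, hI, hb, hample⟩ :=
    RGFlatLib.exists_blowUp_ampleFamily C' TopologicalSpace.NoetherianSpace.finite_irreducibleComponents
  haveI : IsProper b := BlowUpLib.isProper_of_isBlowUp hb hI.1
  let Z : Closeds X₀ := ⟨j '' (U : Set C')ᶜ, j.isClosedEmbedding.isClosedMap _ U.isOpen.isClosed_compl⟩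
  have hlt : Z < C := by
    refine lt_of_le_of_ne (fun y hy => ?_) fun he => ?_
    · obtain ⟨z, -, rfl⟩ := hy
      show j z ∈ (C : Set X₀)
      rw [← hrange]; exact ⟨z, rfl⟩
    · obtain ⟨z, hz⟩ := hUd.nonempty
      have : j z ∈ (Z : Set X₀) := by rw [he, ← hrange]; exact ⟨z, rfl⟩
      obtain ⟨w, hw, hwz⟩ := this
      exact hw (by rw [j.isClosedEmbedding.injective hwz]; exact hz)
  obtain ⟨YZ, fZ, hfZ, hampleZ, hliftZ⟩ := ih Z hlt
  haveI := hfZ
  refine ⟨X' ⨿ YZ, coprod.desc (b ≫ j) fZ, PhLib.isProper_coprodDesc _ _, hasAmpleFamily_coprod hample hampleZ,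
    fun x hx => ?_⟩
  by_cases hxZ : x ∈ Z
  · obtain ⟨l, hl⟩ := hliftZ x hxZ
    exact ⟨l ≫ coprod.inr, by rw [Category.assoc, coprod.inr_desc, hl]⟩
  obtain ⟨t, ht⟩ := hfac x hx
  have hU : ∀ s, t s ∈ U := fun s => by
    by_contra h
    refine hxZ ⟨t s, h, ?_⟩
    rw [← Scheme.Hom.comp_apply, ht, Scheme.fromSpecResidueField_apply]
  have heff : BlowUp.IsEffCartierIdeal (𝓘.comap t) := by
    have := RzLib.OSh.isEffCartier_comap_of_disjoint 𝓘.subschemeι t fun s hs => by
      rw [Scheme.IdealSheafData.range_subschemeι] at hs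
      exact Set.disjoint_left.1 hI.2 hs (hU s)
    rwa [Scheme.IdealSheafData.ker_subschemeι] at this
  obtain ⟨l, hl, -⟩ := hb.2 _ t heff
  exact ⟨l ≫ coprod.inl, by rw [Category.assoc, coprod.inl_desc, ← Category.assoc, hl, ht]⟩

/-- A lift of the residue field point gives a point with trivial residue field extension. -/
theorem exists_point_of_lift {X Y : Scheme.{u}} (f : Y ⟶ X) (x : X) (l : Spec (X.residueField x) ⟶ Y)
    (hl : l ≫ f = X.fromSpecResidueField x) : ∃ y : Y, f y = x ∧ Function.Bijective (f.residueFieldMap y) := by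
  let y := l (IsLocalRing.closedPoint (X.residueField x))
  have hy : f y = x := by rw [← Scheme.Hom.comp_apply, hl, Scheme.fromSpecResidueField_apply]
  let φ : Y.residueField y ⟶ CommRingCat.of (X.residueField x) :=
    Y.descResidueField (Scheme.stalkClosedPointTo l)
  have hφ : Spec.map φ ≫ Y.fromSpecResidueField y = l :=
    Scheme.descResidueField_stalkClosedPointTo_fromSpecResidueField _ Y l
  have h : Spec.map (f.residueFieldMap y ≫ φ) = Spec.map (X.residueFieldCongr hy).hom := by
    rw [← cancel_mono (X.fromSpecResidueField (f y)), Spec.map_comp, Category.assoc,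
      Scheme.Hom.SpecMap_residueFieldMap_fromSpecResidueField, reassoc_of% hφ, hl]
    exact (Scheme.residueFieldCongr_fromSpecResidueField hy).symm
  have h' := Spec.map_inj.1 h
  refine ⟨y, hy, RingHom.injective (f.residueFieldMap y).hom, fun z => ?_⟩
  obtain ⟨w, hw⟩ := (ConcreteCategory.bijective_of_isIso (X.residueFieldCongr hy).hom).2 (φ z)
  refine ⟨w, φ.hom.injective ?_⟩
  rw [← hw]
  exact congrArg (fun k => k w) h'

/-- Every qcqs scheme has a proper completely decomposed covering of finite presentation with an ample family. -/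
theorem exists_cover (X : Scheme.{u}) [CompactSpace X] [QuasiSeparatedSpace X] :
    ∃ (Y : Scheme.{u}) (f : Y ⟶ X), IsProper f ∧ LocallyOfFinitePresentation f ∧
      (∀ x : X, ∃ y : Y, f y = x ∧ Function.Bijective (f.residueFieldMap y)) ∧ MoreMor.HasAmpleFamily Y := by
  obtain ⟨A⟩ := NoethApproxLib.exists_approx X
  obtain ⟨i⟩ := A.nonempty
  haveI : IsNoetherian (A.obj i) := { toIsLocallyNoetherian := A.isLocallyNoetherian _ }
  obtain ⟨Y₀, f₀, _, hample, hlift⟩ := exists_cover_closed (⊤ : Closeds (A.obj i))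
  haveI : LocallyOfFinitePresentation f₀ := inferInstance
  haveI : IsAffineHom (A.proj i) := A.isAffineHom_proj i
  refine ⟨pullback f₀ (A.proj i), pullback.snd _ _, MorphismProperty.pullback_snd _ _ ‹_›,
    MorphismProperty.pullback_snd _ _ ‹_›, fun x => ?_,
    MiscFlat6.hasAmpleFamily_pb (pullback.fst f₀ (A.proj i)) (Or.inl (MorphismProperty.pullback_fst _ _ (A.isAffineHom_proj i))) hample⟩
  obtain ⟨l, hl⟩ := hlift (A.proj i x) trivial
  refine exists_point_of_lift _ x
    (pullback.lift (Spec.map ((A.proj i).residueFieldMap x) ≫ l) (X.fromSpecResidueField x) ?_)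
    (pullback.lift_snd _ _ _)
  rw [Category.assoc, hl, Scheme.Hom.SpecMap_residueFieldMap_fromSpecResidueField]

end AmpleCdLib
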